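import Mathlib
import Groth.Prelude.Def_AlgSt
import Groth.Prelude.Def_FibCat2
import Groth.Prelude.Def_W4c2modmodulilectNerve
import Groth.Agent.Lib.Helper2.FibGrpd

/-!
# Cones over diagrams in a category fibred in groupoids, indexed by a simply connected category
(helper6)
-/

set_option linter.unusedSectionVars false
set_option linter.unusedVariables false
set_option linter.unusedSimpArgs false
set_option autoImplicit false
set_option linter.style.haveILetI false
set_option maxHeartbeats 400000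

noncomputable section

namespace Groth.Agent.Helper6.SectL

open CategoryTheory CategoryTheory.Functor Groth.Agent.Helper2

universe w s vJ uJ v₁ v₂ v₃ u₁ u₂ u₃

/-- Weak contractibility: non-empty, and every functor to a groupoid (in universe `w`) is
isomorphic to a constant functor. -/
def WeakContr (J : Type uJ) [Category.{vJ} J] : Prop :=
  Nonempty J ∧ ∀ (G : Type w) [Groupoid.{w} G] (K : J ⥤ G),
    ∃ g : G, Nonempty ((Functor.const J).obj g ≅ K)

theorem WeakContr.nonempty {J : Type uJ} [Category.{vJ} J] (h : WeakContr.{w} J) : Nonempty J :=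
  h.1

theorem WeakContr.exists_iso {J : Type uJ} [Category.{vJ} J] (h : WeakContr.{w} J)
    (G : Type w) [Groupoid.{w} G] (K : J ⥤ G) :
    ∃ g : G, Nonempty ((Functor.const J).obj g ≅ K) := h.2 G K

theorem weakContr_of_hasContractibleNerve {J : Type uJ} [Category.{vJ} J]
    (h : W4c2modmodulilect.HasContractibleNerve.{w, w} J) : WeakContr.{w} J := by
  refine ⟨h.1, ?_⟩
  intro G _ K
  have := h.2 G
  exact ⟨(Functor.const J).objPreimage K, ⟨(Functor.const J).objObjPreimageIso K⟩⟩

/-- A function on a weakly contractible category which is constant along morphisms is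
constant. -/
theorem WeakContr.const_of_hom {J : Type uJ} [Category.{vJ} J] {S : Type s}
    (h : WeakContr.{max w s} J) (r : J → S)
    (hr : ∀ {j j' : J} (_ : j ⟶ j'), r j = r j') (j j' : J) : r j = r j' := by
  let R : J ⥤ Discrete (ULift.{w} S) :=
    { obj := fun j => ⟨⟨r j⟩⟩
      map := fun {j j'} f => eqToHom (by rw [hr f])
      map_id := fun j => Subsingleton.elim _ _
      map_comp := fun f g => Subsingleton.elim _ _ }
  obtain ⟨g, ⟨e⟩⟩ := h.2 (Discrete (ULift.{w} S)) R
  have key : ∀ j, g.as = (R.obj j).as := fun j => Discrete.eq_of_hom (e.hom.app j)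
  have h3 : (R.obj j).as = (R.obj j').as := (key j).symm.trans (key j')
  exact congrArg ULift.down h3

section Cone

variable {D : Type u₂} [Category.{v₂} D] {F : Type u₃} [Category.{v₃} F] (p : F ⥤ D)
  [hp : FibCat.IsFibGrpd p]

theorem isIso_asSmall_fiber (Y : D) {a b : AsSmall.{w} (p.Fiber Y)} (f : a ⟶ b) : IsIso f := by
  haveI h0 : p.IsHomLift (𝟙 Y) f.down.1 := f.down.2
  haveI h1 : IsIso f.down.1 := IsFibGrpd.isIso_of_isHomLift_id p hp (S := Y) f.down.1
  have h2 : p.IsHomLift (𝟙 Y) (inv f.down.1) := inferInstance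
  refine ⟨⟨⟨⟨inv f.down.1, h2⟩⟩, ?_, ?_⟩⟩
  · apply ULift.ext
    apply Subtype.ext
    exact IsIso.hom_inv_id f.down.1
  · apply ULift.ext
    apply Subtype.ext
    exact IsIso.inv_hom_id f.down.1

/-- The fibre groupoid, made small. -/
def grpdInst (Y : D) : Groupoid (AsSmall.{w} (p.Fiber Y)) :=
  Groupoid.ofIsIso (fun f => isIso_asSmall_fiber p Y f)

/-- Existence of a cone over a diagram in `F` lying over a given cone in the base, for a weakly
contractible index category. -/
theorem exists_cone {J : Type uJ} [Category.{vJ} J]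
    (hJ : WeakContr.{max w v₃ u₃} J) (Y : D) (S : J ⥤ F) (B : J → D) (a : ∀ j, Y ⟶ B j)
    (b : ∀ {j j' : J}, (j ⟶ j') → (B j ⟶ B j'))
    (hab : ∀ {j j' : J} (h : j ⟶ j'), a j ≫ b h = a j')
    (hS : ∀ {j j' : J} (h : j ⟶ j'), p.IsHomLift (b h) (S.map h)) :
    ∃ (T : F) (_ : p.obj T = Y) (lam : ∀ j, T ⟶ S.obj j),
      (∀ j, p.IsHomLift (a j) (lam j)) ∧
        ∀ {j j' : J} (h : j ⟶ j'), lam j ≫ S.map h = lam j' := by
  classical
  have hB : ∀ j, p.obj (S.obj j) = B j := fun j => by
    haveI := hS (𝟙 j)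
    exact IsHomLift.domain_eq p (b (𝟙 j)) (S.map (𝟙 j))
  have hex : ∀ j, ∃ (k : F) (c : k ⟶ S.obj j), p.IsHomLift (a j) c := fun j =>
    IsFibGrpd.exists_lift_of_eq p hp (hB j) (a j)
  choose K₀ c hc using hex
  have hK₀ : ∀ j, p.obj (K₀ j) = Y := fun j => by
    haveI := hc j
    exact IsHomLift.domain_eq p (a j) (c j)
  have hmap : ∀ {j j' : J} (h : j ⟶ j'), ∃! χ : K₀ j ⟶ K₀ j',
      p.IsHomLift (𝟙 Y) χ ∧ χ ≫ c j' = c j ≫ S.map h := by
    intro j j' h
    haveI := hc j
    haveI := hc j'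
    haveI := hS h
    haveI : p.IsHomLift (a j ≫ b h) (c j ≫ S.map h) := inferInstance
    exact IsFibGrpd.existsUnique p hp (𝟙 Y) (a j') (a j ≫ b h)
      (by rw [hab h, Category.id_comp]) (c j') (c j ≫ S.map h)
  let Km : ∀ {j j' : J} (h : j ⟶ j'), K₀ j ⟶ K₀ j' := fun h => (hmap h).choose
  have Km1 : ∀ {j j' : J} (h : j ⟶ j'), p.IsHomLift (𝟙 Y) (Km h) := fun h =>
    (hmap h).choose_spec.1.1
  have Km2 : ∀ {j j' : J} (h : j ⟶ j'), Km h ≫ c j' = c j ≫ S.map h := fun h =>
    (hmap h).choose_spec.1.2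
  letI := grpdInst.{w} p Y
  let K : J ⥤ AsSmall.{w} (p.Fiber Y) :=
    { obj := fun j => ⟨⟨K₀ j, hK₀ j⟩⟩
      map := fun {j j'} h => ⟨⟨Km h, Km1 h⟩⟩
      map_id := fun j => by
        apply ULift.ext
        apply Subtype.ext
        change Km (𝟙 j) = 𝟙 (K₀ j)
        haveI := Km1 (𝟙 j)
        haveI : p.IsHomLift (𝟙 Y) (𝟙 (K₀ j)) := IsHomLift.id (hK₀ j)
        apply IsFibGrpd.ext_of_comp p hp (𝟙 Y) (c j)
        rw [Km2, S.map_id, Category.comp_id, Category.id_comp]
      map_comp := fun {j j' j''} h h' => by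
        apply ULift.ext
        apply Subtype.ext
        change Km (h ≫ h') = Km h ≫ Km h'
        haveI := Km1 (h ≫ h')
        haveI := Km1 h
        haveI := Km1 h'
        haveI : p.IsHomLift (𝟙 Y) (Km h ≫ Km h') := inferInstance
        apply IsFibGrpd.ext_of_comp p hp (𝟙 Y) (c j'')
        rw [Km2, S.map_comp, Category.assoc, Km2, ← Category.assoc, ← Km2 h, Category.assoc] }
  obtain ⟨g, ⟨e⟩⟩ := hJ.2 (AsSmall.{w} (p.Fiber Y)) K
  refine ⟨(AsSmall.down.obj g).1, (AsSmall.down.obj g).2, fun j => (e.hom.app j).down.1 ≫ c j, ?_, ?_⟩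
  · intro j
    haveI : p.IsHomLift (𝟙 Y) (e.hom.app j).down.1 := (e.hom.app j).down.2
    haveI := hc j
    change p.IsHomLift (a j) ((e.hom.app j).down.1 ≫ c j)
    infer_instance
  · intro j j' h
    have h1 := e.hom.naturality h
    have h2 : (e.hom.app j').down.1 = (e.hom.app j).down.1 ≫ Km h := by
      have h3 := congrArg (fun t => t.down.1) h1
      change 𝟙 _ ≫ (e.hom.app j').down.1 = (e.hom.app j).down.1 ≫ Km h at h3
      rw [Category.id_comp] at h3
      exact h3
    change ((e.hom.app j).down.1 ≫ c j) ≫ S.map h = (e.hom.app j').down.1 ≫ c j'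
    rw [h2, Category.assoc, Category.assoc, Km2]

end Cone

end Groth.Agent.Helper6.SectL
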