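import Mathlib
import Groth.Prelude.Def_AlgSt
import Groth.Prelude.Def_FibCat2
import Groth.Prelude.Def_W4c2modmodulilectNerve
import Groth.Agent.Lib.Helper6.Sect.Cone

/-!
# For a fibred category, the comma categories `Y/f` are simply connected when the fibres are
(helper6)
-/

set_option linter.unusedSectionVars false
set_option linter.unusedVariables false
set_option linter.unusedSimpArgs false
set_option autoImplicit false
set_option linter.style.haveILetI false
set_option maxHeartbeats 400000

noncomputable section

namespace Groth.Agent.Helper6.SectL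

open CategoryTheory CategoryTheory.Functor

universe w v₁ v₂ u₁ u₂

variable {C : Type u₁} [Category.{v₁} C] {D : Type u₂} [Category.{v₂} D] (f : C ⥤ D)

/-- The inclusion of the fibre into the comma category. -/
def fibToComma (Y : D) : f.Fiber Y ⥤ StructuredArrow Y f where
  obj x := StructuredArrow.mk (eqToHom x.2.symm : Y ⟶ f.obj x.1)
  map {x x'} m := StructuredArrow.homMk m.1 (by
    haveI : f.IsHomLift (𝟙 Y) m.1 := m.2
    have h := IsHomLift.fac' f (𝟙 Y) m.1
    change eqToHom x.2.symm ≫ f.map m.1 = eqToHom x'.2.symm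
    rw [h]
    simp)
  map_id x := by
    apply StructuredArrow.hom_ext
    rfl
  map_comp m m' := by
    apply StructuredArrow.hom_ext
    rfl

theorem weakContr_structuredArrow [f.IsFibered] (Y : D) (hF : WeakContr.{w} (f.Fiber Y)) :
    WeakContr.{w} (StructuredArrow Y f) := by
  refine ⟨?_, ?_⟩
  · obtain ⟨x⟩ := hF.nonempty
    exact ⟨(fibToComma f Y).obj x⟩
  · intro G _ K
    obtain ⟨g, ⟨e⟩⟩ := hF.exists_iso G (fibToComma f Y ⋙ K)
    -- chosen cartesian lifts
    let ρ : StructuredArrow Y f → C := fun j => IsPreFibered.pullbackObj (p := f) rfl j.hom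
    let c : ∀ j : StructuredArrow Y f, ρ j ⟶ j.right := fun j =>
      IsPreFibered.pullbackMap (p := f) rfl j.hom
    have hc : ∀ j, f.IsCartesian j.hom (c j) := fun j => inferInstance
    have hρ : ∀ j, f.obj (ρ j) = Y := fun j => IsPreFibered.pullbackObj_proj (p := f) rfl j.hom
    let x : StructuredArrow Y f → f.Fiber Y := fun j => ⟨ρ j, hρ j⟩
    have hw : ∀ j : StructuredArrow Y f, eqToHom (hρ j).symm ≫ f.map (c j) = j.hom := by
      intro j
      haveI := (hc j).toIsHomLift
      have h := IsHomLift.fac' f j.hom (c j)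
      rw [h]
      simp
    let u : ∀ j : StructuredArrow Y f, (fibToComma f Y).obj (x j) ⟶ j := fun j =>
      StructuredArrow.homMk (c j) (hw j)
    refine ⟨g, ⟨NatIso.ofComponents (fun j => asIso (e.hom.app (x j) ≫ K.map (u j))) ?_⟩⟩
    intro j j' h
    -- the vertical morphism induced by `h`
    haveI := hc j'
    haveI := (hc j).toIsHomLift
    haveI hl : f.IsHomLift j'.hom (c j ≫ h.right) := by
      have : f.IsHomLift (j.hom ≫ f.map h.right) (c j ≫ h.right) := inferInstance
      rw [StructuredArrow.w h] at this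
      exact this
    let v : ρ j ⟶ ρ j' := IsCartesian.map f j'.hom (c j') (c j ≫ h.right)
    have hv : f.IsHomLift (𝟙 Y) v := IsCartesian.map_isHomLift f j'.hom (c j') (c j ≫ h.right)
    have hv2 : v ≫ c j' = c j ≫ h.right := IsCartesian.fac f j'.hom (c j') (c j ≫ h.right)
    let vm : x j ⟶ x j' := ⟨v, hv⟩
    have sq : (fibToComma f Y).map vm ≫ u j' = u j ≫ h := by
      apply StructuredArrow.hom_ext
      exact hv2
    have n1 := e.hom.naturality vm
    have n2 : e.hom.app (x j') = e.hom.app (x j) ≫ K.map ((fibToComma f Y).map vm) := by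
      have : 𝟙 g ≫ e.hom.app (x j') = e.hom.app (x j) ≫ K.map ((fibToComma f Y).map vm) := n1
      rw [Category.id_comp] at this
      exact this
    change 𝟙 g ≫ e.hom.app (x j') ≫ K.map (u j') = (e.hom.app (x j) ≫ K.map (u j)) ≫ K.map h
    rw [Category.id_comp, n2, Category.assoc, Category.assoc, ← K.map_comp, ← K.map_comp, sq]

end Groth.Agent.Helper6.SectL
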