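import Mathlib
import Groth.Prelude.Def_AlgSt
import Groth.Prelude.Def_FibCat2
import Groth.Prelude.Def_W4c2modmodulilectNerve
import Groth.Agent.Lib.Helper2.FibGrpd
import Groth.Agent.Lib.Helper6.Sect.Cone

/-!
# Restriction of sections of a category fibred in groupoids along a functor with simply connected
comma categories is an equivalence (helper6)
-/

set_option linter.unusedSectionVars false
set_option linter.unusedVariables false
set_option linter.unusedSimpArgs false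
set_option autoImplicit false
set_option linter.style.haveILetI false
set_option maxHeartbeats 400000

noncomputable section

namespace Groth.Agent.Helper6.SectL

open CategoryTheory CategoryTheory.Functor Groth.Agent.Helper2

universe v₁ v₂ v₃ u₁ u₂ u₃

variable {C : Type u₁} [Category.{v₁} C] {D : Type u₂} [Category.{v₂} D] {F : Type u₃}
  [Category.{v₃} F] (φ : C ⥤ D) (p : F ⥤ D) [hp : FibCat.IsFibGrpd p]

/-- A compatible family of cones over the restrictions of `s` to the comma categories. -/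
structure ConeData (s : C ⥤ F) where
  T : D → F
  hT : ∀ Y, p.obj (T Y) = Y
  lam : ∀ (Y : D) (X : C), (Y ⟶ φ.obj X) → (T Y ⟶ s.obj X)
  hlam : ∀ (Y : D) (X : C) (α : Y ⟶ φ.obj X), p.IsHomLift α (lam Y X α)
  nat : ∀ (Y : D) {X X' : C} (α : Y ⟶ φ.obj X) (h : X ⟶ X'),
    lam Y X α ≫ s.map h = lam Y X' (α ≫ φ.map h)

theorem exists_coneData
    (hφ : ∀ Y : D, WeakContr.{max u₁ u₂ u₃ v₁ v₂ v₃} (StructuredArrow Y φ)) (s : C ⥤ F)
    (hs : ∀ {X X' : C} (h : X ⟶ X'), p.IsHomLift (φ.map h) (s.map h)) :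
    Nonempty (ConeData φ p s) := by
  have key : ∀ Y : D, ∃ (T : F) (_ : p.obj T = Y)
      (lam : ∀ j : StructuredArrow Y φ, T ⟶ (StructuredArrow.proj Y φ ⋙ s).obj j),
      (∀ j, p.IsHomLift j.hom (lam j)) ∧
        ∀ {j j' : StructuredArrow Y φ} (h : j ⟶ j'),
          lam j ≫ (StructuredArrow.proj Y φ ⋙ s).map h = lam j' := fun Y =>
    exists_cone.{max u₁ u₂ u₃ v₁ v₂ v₃} p (hφ Y) Y (StructuredArrow.proj Y φ ⋙ s)
      (fun j => φ.obj j.right) (fun j => j.hom) (fun h => φ.map h.right)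
      (fun h => StructuredArrow.w h) (fun h => hs h.right)
  choose T hT lam hlam hnat using key
  exact ⟨{ T := T
           hT := hT
           lam := fun Y X α => lam Y (StructuredArrow.mk α)
           hlam := fun Y X α => hlam Y (StructuredArrow.mk α)
           nat := fun Y {X X'} α h =>
             hnat Y (StructuredArrow.homMk h rfl :
               StructuredArrow.mk α ⟶ StructuredArrow.mk (α ≫ φ.map h)) }⟩

section Build

variable {φ p}
variable (hφ : ∀ Y : D, WeakContr.{max u₁ u₂ u₃ v₁ v₂ v₃} (StructuredArrow Y φ))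
  {s : C ⥤ F} (cd : ConeData φ p s)

theorem exists_tmapAt {Y' Y : D} (β : Y' ⟶ Y) (X : C) (α : Y ⟶ φ.obj X) :
    ∃! χ : cd.T Y' ⟶ cd.T Y, p.IsHomLift β χ ∧ χ ≫ cd.lam Y X α = cd.lam Y' X (β ≫ α) := by
  haveI := cd.hlam Y X α
  haveI := cd.hlam Y' X (β ≫ α)
  exact IsFibGrpd.existsUnique p hp β α (β ≫ α) rfl (cd.lam Y X α) (cd.lam Y' X (β ≫ α))

def tmapAt {Y' Y : D} (β : Y' ⟶ Y) (X : C) (α : Y ⟶ φ.obj X) : cd.T Y' ⟶ cd.T Y :=
  (exists_tmapAt cd β X α).choose

theorem tmapAt_isHomLift {Y' Y : D} (β : Y' ⟶ Y) (X : C) (α : Y ⟶ φ.obj X) :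
    p.IsHomLift β (tmapAt cd β X α) := (exists_tmapAt cd β X α).choose_spec.1.1

theorem tmapAt_spec {Y' Y : D} (β : Y' ⟶ Y) (X : C) (α : Y ⟶ φ.obj X) :
    tmapAt cd β X α ≫ cd.lam Y X α = cd.lam Y' X (β ≫ α) :=
  (exists_tmapAt cd β X α).choose_spec.1.2

include hφ in
theorem tmapAt_eq {Y' Y : D} (β : Y' ⟶ Y) (X : C) (α : Y ⟶ φ.obj X) (X' : C)
    (α' : Y ⟶ φ.obj X') : tmapAt cd β X α = tmapAt cd β X' α' := by
  have key := WeakContr.const_of_hom.{max u₁ u₂ u₃ v₁ v₂ v₃, v₃} (hφ Y)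
    (fun j : StructuredArrow Y φ => tmapAt cd β j.right j.hom) (by
      intro j j' h
      refine (exists_tmapAt cd β j'.right j'.hom).unique
        ⟨tmapAt_isHomLift cd β j.right j.hom, ?_⟩
        ⟨tmapAt_isHomLift cd β j'.right j'.hom, tmapAt_spec cd β j'.right j'.hom⟩
      rw [← StructuredArrow.w h, ← cd.nat, ← Category.assoc, tmapAt_spec, cd.nat, Category.assoc])
    (StructuredArrow.mk α) (StructuredArrow.mk α')
  exact key

/-- A chosen object of the comma category. -/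
def base (hne : ∀ Y : D, Nonempty (StructuredArrow Y φ)) (Y : D) : StructuredArrow Y φ :=
  (hne Y).some

def tmap {Y' Y : D} (β : Y' ⟶ Y) : cd.T Y' ⟶ cd.T Y :=
  tmapAt cd β (base (fun Y => (hφ Y).nonempty) Y).right (base (fun Y => (hφ Y).nonempty) Y).hom

theorem tmap_isHomLift {Y' Y : D} (β : Y' ⟶ Y) : p.IsHomLift β (tmap hφ cd β) :=
  tmapAt_isHomLift cd β _ _

theorem tmap_spec {Y' Y : D} (β : Y' ⟶ Y) (X : C) (α : Y ⟶ φ.obj X) :
    tmap hφ cd β ≫ cd.lam Y X α = cd.lam Y' X (β ≫ α) := by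
  rw [tmap, tmapAt_eq hφ cd β _ _ X α]
  exact tmapAt_spec cd β X α

/-- The section of `p` extending `s`. -/
def tFun : D ⥤ F where
  obj := cd.T
  map β := tmap hφ cd β
  map_id Y := by
    haveI := tmap_isHomLift hφ cd (𝟙 Y)
    haveI : p.IsHomLift (𝟙 Y) (𝟙 (cd.T Y)) := IsHomLift.id (cd.hT Y)
    apply IsFibGrpd.ext_of_comp p hp (𝟙 Y) (cd.lam Y (base (fun Y => (hφ Y).nonempty) Y).right (base (fun Y => (hφ Y).nonempty) Y).hom)
    rw [tmap_spec, Category.id_comp, Category.id_comp]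
  map_comp {Y'' Y' Y} β' β := by
    haveI := tmap_isHomLift hφ cd (β' ≫ β)
    haveI := tmap_isHomLift hφ cd β'
    haveI := tmap_isHomLift hφ cd β
    haveI : p.IsHomLift (β' ≫ β) (tmap hφ cd β' ≫ tmap hφ cd β) := inferInstance
    apply IsFibGrpd.ext_of_comp p hp (β' ≫ β) (cd.lam Y (base (fun Y => (hφ Y).nonempty) Y).right (base (fun Y => (hφ Y).nonempty) Y).hom)
    rw [tmap_spec, Category.assoc (tmap hφ cd β'), tmap_spec, tmap_spec, Category.assoc]

theorem lam_isIso (X : C) : IsIso (cd.lam (φ.obj X) X (𝟙 _)) := by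
  haveI := cd.hlam (φ.obj X) X (𝟙 _)
  exact IsFibGrpd.isIso_of_isHomLift_id p hp (S := φ.obj X) _

/-- The section as a functor over the base. -/
def tB : FibCat.selfOver D ⥤ᵇ BasedCategory.ofFunctor p where
  toFunctor := tFun (hp := hp) hφ cd
  w := CategoryTheory.Functor.ext (fun Y => cd.hT Y) (fun Y' Y β => by
    haveI := tmap_isHomLift hφ cd β
    exact IsHomLift.fac' p β (tmap hφ cd β))

end Build

theorem based_isHomLift (sB : BasedCategory.ofFunctor φ ⥤ᵇ BasedCategory.ofFunctor p) {X X' : C}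
    (h : X ⟶ X') : p.IsHomLift (φ.map h) (sB.toFunctor.map h) := by
  haveI h1 : (BasedCategory.ofFunctor φ).p.IsHomLift (φ.map h) h := IsHomLift.map φ h
  exact BasedFunctor.preserves_isHomLift sB (φ.map h) h

theorem section_isHomLift (t : FibCat.selfOver D ⥤ᵇ BasedCategory.ofFunctor p) {Y' Y : D}
    (β : Y' ⟶ Y) : p.IsHomLift β (t.toFunctor.map β) := by
  haveI h1 : (FibCat.selfOver D).p.IsHomLift β β := IsHomLift.map (𝟭 D) β
  exact BasedFunctor.preserves_isHomLift t β β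

/-- The restriction functor. -/
abbrev R : (FibCat.selfOver D ⥤ᵇ BasedCategory.ofFunctor p) ⥤
    (BasedCategory.ofFunctor φ ⥤ᵇ BasedCategory.ofFunctor p) :=
  Stk.restr (FibCat.toSelf (BasedCategory.ofFunctor φ)) (BasedCategory.ofFunctor p)

section Main

variable (hφ : ∀ Y : D, WeakContr.{max u₁ u₂ u₃ v₁ v₂ v₃} (StructuredArrow Y φ))

include hφ in
theorem restr_essSurj : (R φ p).EssSurj where
  mem_essImage sB := by
    obtain ⟨cd⟩ := exists_coneData φ p hφ sB.toFunctor (fun h => based_isHomLift φ p sB h)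
    refine ⟨tB hφ cd, ⟨BasedNatIso.mkNatIso (NatIso.ofComponents (fun X =>
      @asIso _ _ _ _ (cd.lam (φ.obj X) X (𝟙 _)) (lam_isIso cd X)) ?_) ?_⟩⟩
    · intro X X' h
      change tmap hφ cd (φ.map h) ≫ cd.lam (φ.obj X') X' (𝟙 _) =
        cd.lam (φ.obj X) X (𝟙 _) ≫ sB.toFunctor.map h
      rw [tmap_spec, cd.nat, Category.comp_id, Category.id_comp]
    · intro X
      exact cd.hlam (φ.obj X) X (𝟙 _)

include hφ in
theorem faithful_plain (tF tF' : D ⥤ F)
    (ht' : ∀ {Y' Y : D} (β : Y' ⟶ Y), p.IsHomLift β (tF'.map β)) (θ θ' : tF ⟶ tF')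
    (h1 : ∀ Y, p.IsHomLift (𝟙 Y) (θ.app Y)) (h2 : ∀ Y, p.IsHomLift (𝟙 Y) (θ'.app Y))
    (hX : ∀ X : C, θ.app (φ.obj X) = θ'.app (φ.obj X)) : θ = θ' := by
  apply NatTrans.ext
  funext Y
  let j₀ := (hφ Y).nonempty.some
  have n1 := θ.naturality j₀.hom
  have n2 := θ'.naturality j₀.hom
  haveI := h1 Y
  haveI := h2 Y
  apply IsFibGrpd.ext_of_comp p hp (𝟙 Y) (tF'.map j₀.hom)
  rw [← n1, ← n2, hX]

include hφ in
theorem full_plain (tF tF' : D ⥤ F)
    (ht : ∀ {Y' Y : D} (β : Y' ⟶ Y), p.IsHomLift β (tF.map β))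
    (ht' : ∀ {Y' Y : D} (β : Y' ⟶ Y), p.IsHomLift β (tF'.map β))
    (η : φ ⋙ tF ⟶ φ ⋙ tF') (hη : ∀ X : C, p.IsHomLift (𝟙 (φ.obj X)) (η.app X)) :
    ∃ θ : tF ⟶ tF', (∀ Y, p.IsHomLift (𝟙 Y) (θ.app Y)) ∧
      ∀ X : C, θ.app (φ.obj X) = η.app X := by
  have ηnat : ∀ {X X' : C} (h : X ⟶ X'), tF.map (φ.map h) ≫ η.app X' =
      η.app X ≫ tF'.map (φ.map h) := fun h => η.naturality h
  have hex : ∀ (Y : D) (X : C) (α : Y ⟶ φ.obj X), ∃! χ : tF.obj Y ⟶ tF'.obj Y,
      p.IsHomLift (𝟙 Y) χ ∧ χ ≫ tF'.map α = tF.map α ≫ η.app X := by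
    intro Y X α
    haveI := ht' α
    haveI := ht α
    haveI := hη X
    haveI : p.IsHomLift (α ≫ 𝟙 _) (tF.map α ≫ η.app X) := inferInstance
    exact IsFibGrpd.existsUnique p hp (𝟙 Y) α (α ≫ 𝟙 _)
      (by rw [Category.comp_id, Category.id_comp]) (tF'.map α) (tF.map α ≫ η.app X)
  let r : ∀ (Y : D) (X : C) (α : Y ⟶ φ.obj X), tF.obj Y ⟶ tF'.obj Y :=
    fun Y X α => (hex Y X α).choose
  have r1 : ∀ Y X α, p.IsHomLift (𝟙 Y) (r Y X α) := fun Y X α => (hex Y X α).choose_spec.1.1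
  have r2 : ∀ Y X α, r Y X α ≫ tF'.map α = tF.map α ≫ η.app X :=
    fun Y X α => (hex Y X α).choose_spec.1.2
  have r3 : ∀ (Y : D) (X : C) (α : Y ⟶ φ.obj X) (X' : C) (α' : Y ⟶ φ.obj X'),
      r Y X α = r Y X' α' := by
    intro Y X α X' α'
    have key := WeakContr.const_of_hom.{max u₁ u₂ u₃ v₁ v₂ v₃, v₃} (hφ Y)
      (fun j : StructuredArrow Y φ => r Y j.right j.hom) (by
        intro j j' h
        refine (hex Y j'.right j'.hom).unique ⟨r1 Y j.right j.hom, ?_⟩
          ⟨r1 Y j'.right j'.hom, r2 Y j'.right j'.hom⟩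
        rw [← StructuredArrow.w h, Functor.map_comp, ← Category.assoc, r2, Category.assoc,
          ← ηnat, Functor.map_comp, Category.assoc])
      (StructuredArrow.mk α) (StructuredArrow.mk α')
    exact key
  let j₀ : ∀ Y : D, StructuredArrow Y φ := fun Y => (hφ Y).nonempty.some
  let θapp : ∀ Y : D, tF.obj Y ⟶ tF'.obj Y := fun Y => r Y (j₀ Y).right (j₀ Y).hom
  have θ2 : ∀ (Y : D) (X : C) (α : Y ⟶ φ.obj X), θapp Y ≫ tF'.map α =
      tF.map α ≫ η.app X := by
    intro Y X α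
    change r Y (j₀ Y).right (j₀ Y).hom ≫ _ = _
    rw [r3 Y _ _ X α]
    exact r2 Y X α
  have θ1 : ∀ Y, p.IsHomLift (𝟙 Y) (θapp Y) := fun Y => r1 Y _ _
  refine ⟨{ app := θapp
            naturality := ?_ }, θ1, ?_⟩
  · intro Y' Y β
    haveI := θ1 Y
    haveI := θ1 Y'
    haveI := ht β
    haveI := ht' β
    haveI : p.IsHomLift β (tF.map β ≫ θapp Y) := inferInstance
    haveI : p.IsHomLift β (θapp Y' ≫ tF'.map β) := inferInstance
    apply IsFibGrpd.ext_of_comp p hp β (tF'.map (j₀ Y).hom)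
    rw [Category.assoc, θ2, ← Category.assoc, ← Functor.map_comp, Category.assoc,
      ← Functor.map_comp, θ2]
  · intro X
    change θapp (φ.obj X) = η.app X
    have h1 := θ2 (φ.obj X) X (𝟙 _)
    rw [CategoryTheory.Functor.map_id, CategoryTheory.Functor.map_id, Category.comp_id,
      Category.id_comp] at h1
    exact h1

include hφ in
theorem restr_faithful : (R φ p).Faithful where
  map_injective := by
    intro t t' θ θ' h
    apply BasedNatTrans.homCategory.ext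
    have hX : ∀ X : C, θ.toNatTrans.app (φ.obj X) = θ'.toNatTrans.app (φ.obj X) := fun X =>
      congrArg (fun k => k.toNatTrans.app X) h
    exact faithful_plain φ p hφ t.toFunctor t'.toFunctor (fun β => section_isHomLift p t' β)
      θ.toNatTrans θ'.toNatTrans (fun Y => θ.app_isHomLift Y) (fun Y => θ'.app_isHomLift Y) hX

include hφ in
theorem restr_full : (R φ p).Full where
  map_surjective := by
    intro t t' η
    obtain ⟨θ, h1, h2⟩ := full_plain φ p hφ t.toFunctor t'.toFunctor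
      (fun β => section_isHomLift p t β) (fun β => section_isHomLift p t' β) η.toNatTrans
      (fun X => η.app_isHomLift X)
    refine ⟨{ toNatTrans := θ, isHomLift' := fun Y => h1 Y }, ?_⟩
    apply BasedNatTrans.homCategory.ext
    apply NatTrans.ext
    funext X
    exact h2 X

include hφ in
theorem restr_isEquivalence : (R φ p).IsEquivalence where
  faithful := restr_faithful φ p hφ
  full := restr_full φ p hφ
  essSurj := restr_essSurj φ p hφ

end Main

end Groth.Agent.Helper6.SectL
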